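import Groth.Agent.MiscTwoH99.WeilS.Kernel
import Groth.Agent.WeilNumLib.Apps
import Groth.Agent.LC.GorLCI
import Groth.Agent.LC.GorQuot
import Groth.Agent.LC.GorFlat

/-!
# When is the order of a Weil family enlarged by a rational number Gorenstein
-/

set_option autoImplicit false

universe u

open MvPolynomial (X C)
open Groth.Agent.WeilNumLib IsLocalRing

namespace Groth.Agent.MiscTwoH99.WeilS

variable {p e : ℕ} [Fact p.Prime] {s : ℤ} (hs : s ^ 2 = (p : ℤ) ^ e)
  {ι : Type} [Fintype ι] {K : ι → Type u} [∀ i, Field (K i)] [∀ i, CharZero (K i)] {π : ∀ i, K i}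
  (W : Fam ((p : ℤ) ^ e) K π) {D : ℕ} {h : P2}
  (hh : X 0 ^ D * h - Polynomial.aeval (X 0 : P2) (∏ i, minpoly ℤ (π i)) ∈ Ideal.span {rel ((p : ℤ) ^ e)})
  (hdeg : ∀ i, (minpoly ℤ (π i)).natDegree ≠ 1)
  (hD : ∑ i, (minpoly ℤ (π i)).natDegree = 2 * D)

include W hh hD in
theorem h_sub_canon_mem : ∃ c : ℤ, c * c = 1 ∧
    h - ((∑ r ∈ Finset.range (D + 1),
          C ((∏ i, minpoly ℤ (π i)).coeff (D + r)) * X 0 ^ r) +
        ∑ r ∈ Finset.range D, C (c * (∏ i, minpoly ℤ (π i)).coeff (D + r + 1)) *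
          X 1 ^ (r + 1)) ∈ Ideal.span {rel ((p : ℤ) ^ e)} := by
  obtain ⟨c, hc, h0⟩ := W.exists_h hD
  refine ⟨c, hc, cancel_X0_pow W.hq.ne' D ?_⟩
  have hsub := sub_mem hh h0
  rwa [sub_sub_sub_cancel_right, ← mul_sub] at hsub

include W hh hD in
theorem dvd_constantCoeff_iff (he : 0 < e) :
    (p : ℤ) ∣ MvPolynomial.constantCoeff h ↔ (p : ℤ) ∣ (∏ i, minpoly ℤ (π i)).coeff D := by
  obtain ⟨c, -, hc⟩ := h_sub_canon_mem W hh hD
  obtain ⟨u, hu⟩ := Ideal.mem_span_singleton.mp hc
  have h2 := congrArg MvPolynomial.constantCoeff hu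
  rw [map_sub, map_mul, constantCoeff_rel, map_add, map_sum, map_sum, sub_eq_iff_eq_add] at h2
  simp only [map_mul, map_pow, MvPolynomial.constantCoeff_X, MvPolynomial.constantCoeff_C,
    Finset.sum_range_succ' _ D, pow_zero, mul_one, ne_eq, Nat.add_eq_zero_iff, one_ne_zero, and_false,
    not_false_eq_true, zero_pow, mul_zero, Finset.sum_const_zero, zero_add, add_zero] at h2
  rw [h2]
  exact dvd_add_right (Dvd.dvd.mul_right (dvd_neg.mpr (dvd_pow_self _ he.ne')) _)

include hs W hdeg hh hD in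
theorem dvd_constantCoeff_iff_exists (he : 0 < e) :
    (p : ℤ) ∣ MvPolynomial.constantCoeff h ↔
      ∃ i, (p : ℤ) ∣ (minpoly ℤ (π i)).coeff ((minpoly ℤ (π i)).natDegree / 2) :=
  (dvd_constantCoeff_iff W hh hD he).trans (dvd_coeff_prod hs W hdeg he hD)

omit W in
theorem subst_sub_mem (j : Fin 2) (v : Fin 2 → Polynomial ℤ) (I : Ideal P2)
    (hv : ∀ i, X i - Polynomial.aeval (X j : P2) (v i) ∈ I) (g : P2) :
    g - Polynomial.aeval (X j : P2) (MvPolynomial.aeval v g) ∈ I := by
  induction g using MvPolynomial.induction_on with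
  | C c => simp
  | add f g hf hg =>
    rw [map_add, map_add, add_sub_add_comm]
    exact add_mem hf hg
  | mul_X f i hf =>
    rw [map_mul, map_mul, MvPolynomial.aeval_X, show f * X i - Polynomial.aeval (X j : P2) (MvPolynomial.aeval v f) *
      Polynomial.aeval (X j : P2) (v i) = (f - Polynomial.aeval (X j : P2) (MvPolynomial.aeval v f)) * X i +
      Polynomial.aeval (X j : P2) (MvPolynomial.aeval v f) * (X i - Polynomial.aeval (X j : P2) (v i)) by ring]
    exact add_mem (Ideal.mul_mem_right _ _ hf) (Ideal.mul_mem_left _ _ (hv i))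

omit W in
theorem cancel_linear {s : ℤ} {g : P2} (hg : (X 1 - C s) * g ∈ Ideal.span {X 0 - C s}) :
    g ∈ Ideal.span ({X 0 - C s} : Set P2) := by
  let v : Fin 2 → Polynomial ℤ := ![Polynomial.C s, Polynomial.X]
  have hv : ∀ i, X i - Polynomial.aeval (X 1 : P2) (v i) ∈ Ideal.span ({X 0 - C s} : Set P2) := by
    intro i
    fin_cases i <;> simp [v, Ideal.mem_span_singleton]
  obtain ⟨k, hk⟩ := Ideal.mem_span_singleton.mp hg
  have h2 := congrArg (MvPolynomial.aeval v) hk
  rw [map_mul, map_mul, show MvPolynomial.aeval v (X 0 - C s) = 0 by simp [v], zero_mul,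
    show MvPolynomial.aeval v (X 1 - C s) = Polynomial.X - Polynomial.C s by simp [v]] at h2
  have h3 := subst_sub_mem 1 v _ hv g
  rwa [(mul_eq_zero.mp h2).resolve_left (Polynomial.X_sub_C_ne_zero s), map_zero, sub_zero] at h3

omit W in
/-- The local criterion used at each prime. -/
theorem gorenstein_step {B : Type u} [CommRing B] (φ : P2 →+* B) (hφ : Function.Surjective φ)
    (q : Ideal B) [q.IsPrime] {u : P2} (hu : φ u ∉ q) {a b : P2} (ha : a ≠ 0)
    (hcancel : ∀ g, b * g ∈ Ideal.span {a} → g ∈ Ideal.span {a})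
    (hab : ∀ x ∈ Ideal.span {a, b}, u * x ∈ RingHom.ker φ) (hker : ∀ t ∈ RingHom.ker φ, u * t ∈ Ideal.span {a, b}) :
    LocCoh.IsGorensteinLocalRing (Localization.AtPrime q) := by
  haveI : LocCoh.IsGorensteinRing (MvPolynomial (Fin 2) (ULift.{u} ℤ)) := by
    haveI : IsRegularRing (ULift.{u} ℤ) := IsRegularRing.of_ringEquiv (ULift.ringEquiv (R := ℤ)).symm
    exact LC.gorensteinRing_of_isRegularRing _
  let E : MvPolynomial (Fin 2) (ULift.{u} ℤ) ≃+* P2 := MvPolynomial.mapEquiv (Fin 2) ULift.ringEquiv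
  have hu0 : E.symm u ≠ 0 := fun h0 => hu (by
    rw [show u = 0 from E.symm.injective (h0.trans (map_zero E.symm).symm), map_zero]; exact q.zero_mem)
  haveI : IsDomain (MvPolynomial (Fin 2) (ULift.{u} ℤ)) := E.toMulEquiv.isDomain _
  let L := Localization.Away (E.symm u)
  have hle : Submonoid.powers (E.symm u) ≤ nonZeroDivisors _ := powers_le_nonZeroDivisors_of_noZeroDivisors hu0
  haveI : IsDomain L := IsLocalization.isDomain_of_le_nonZeroDivisors L hle
  let al : P2 →+* L := (algebraMap (MvPolynomial (Fin 2) (ULift.{u} ℤ)) L).comp E.symm.toRingHom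
  have halu : IsUnit (al u) := IsLocalization.Away.algebraMap_isUnit (E.symm u)
  have hal : Function.Injective al := (IsLocalization.injective L hle).comp E.symm.injective
  have hspan : (Ideal.span {a, b}).map al = (RingHom.ker φ).map al := by
    refine le_antisymm (Ideal.map_le_iff_le_comap.mpr fun x hx => ?_) (Ideal.map_le_iff_le_comap.mpr fun x hx => ?_)
    · rw [Ideal.mem_comap, ← Ideal.unit_mul_mem_iff_mem _ halu, ← map_mul]
      exact Ideal.mem_map_of_mem _ (hab x hx)
    · rw [Ideal.mem_comap, ← Ideal.unit_mul_mem_iff_mem _ halu, ← map_mul]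
      exact Ideal.mem_map_of_mem _ (hker x hx)
  refine LC.gorenstein_atPrime_of_rel (φ.comp E.toRingHom) (hφ.comp E.surjective) q
    (Submonoid.powers (E.symm u)) ?_ L ![al a, al b] ?_ ?_
  · rintro x ⟨n, rfl⟩ hx
    refine hu (Ideal.IsPrime.mem_of_pow_mem inferInstance n ?_)
    simpa using hx
  · intro v hv
    refine rel_pair (fun h0 => ha (hal (h0.trans (map_zero al).symm))) (fun g hg => ?_) v hv
    obtain ⟨g0, t, rfl⟩ := IsLocalization.exists_mk'_eq (Submonoid.powers (E.symm u)) g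
    obtain ⟨n, hn⟩ := t.2
    have hge : IsLocalization.mk' L g0 t * al u ^ n = al (E g0) := by
      rw [← map_pow]
      simp only [al, RingHom.comp_apply, RingEquiv.toRingHom_eq_coe, RingHom.coe_coe, map_pow,
        RingEquiv.symm_apply_apply]
      rw [← map_pow, show E.symm u ^ n = (t : MvPolynomial (Fin 2) (ULift.{u} ℤ)) from hn, IsLocalization.mk'_spec]
    have hu' : IsUnit (al u ^ n) := halu.pow n
    rw [← Ideal.unit_mul_mem_iff_mem _ hu', mul_comm, hge]
    have hg2 : al (b * E g0) ∈ Ideal.span {al a} := by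
      rw [map_mul, ← hge, ← mul_assoc]
      exact Ideal.mul_mem_right _ _ hg
    obtain ⟨z, hz⟩ := Ideal.mem_span_singleton.mp hg2
    obtain ⟨z0, t', rfl⟩ := IsLocalization.exists_mk'_eq (Submonoid.powers (E.symm u)) z
    obtain ⟨m, hm⟩ := t'.2
    have hze : IsLocalization.mk' L z0 t' * al u ^ m = al (E z0) := by
      rw [← map_pow]
      simp only [al, RingHom.comp_apply, RingEquiv.toRingHom_eq_coe, RingHom.coe_coe, map_pow,
        RingEquiv.symm_apply_apply]
      rw [← map_pow, show E.symm u ^ m = (t' : MvPolynomial (Fin 2) (ULift.{u} ℤ)) from hm, IsLocalization.mk'_spec]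
    have h3 : b * (E g0 * u ^ m) = a * E z0 := hal (by
      rw [← mul_assoc, map_mul, map_mul al a, map_pow, hz, mul_assoc, hze])
    obtain ⟨k, hk⟩ := Ideal.mem_span_singleton.mp (hcancel _ (Ideal.mem_span_singleton.mpr ⟨_, h3⟩))
    rw [← Ideal.unit_mul_mem_iff_mem _ (halu.pow m), ← map_pow, ← map_mul, mul_comm, hk, map_mul]
    exact Ideal.mul_mem_right _ _ (Ideal.mem_span_singleton_self _)
  · rw [show Set.range ![al a, al b] = al '' {a, b} by
      rw [Set.image_pair, Matrix.range_cons, Matrix.range_cons, Matrix.range_empty, Set.union_empty,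
        Set.singleton_union], ← Ideal.map_span, hspan, ← Ideal.map_map, ← RingHom.comap_ker]
    exact congrArg _ (Ideal.map_symm E)

theorem sub_C_ne_zero (s : ℤ) : (X 0 : P2) - C s ≠ 0 := fun h0 => by
  have := congrArg (ev (s + 1) 0) h0
  simp [ev] at this

theorem mem_mul_of_mem_span (J I : Ideal P2) (u : P2) (S : Set P2) (hS : J = Ideal.span S)
    (hgen : ∀ x ∈ S, u * x ∈ I) : ∀ t ∈ J, u * t ∈ I := by
  subst hS
  intro t ht
  induction ht using Submodule.span_induction with
  | mem x hx => exact hgen x hx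
  | zero => simp
  | add x y _ _ hx hy => rw [mul_add]; exact add_mem hx hy
  | smul r x _ hx => rw [smul_eq_mul, mul_left_comm]; exact Ideal.mul_mem_left _ _ hx

include hs W hh hdeg hD in
theorem gorenstein_of_not_dvd (he : 0 < e) (hp : ¬ (p : ℤ) ∣ MvPolynomial.constantCoeff h) :
    LocCoh.IsGorensteinRing.{u} (val p e s π).range := by
  let φ : P2 →+* (val p e s π).range := (val p e s π).rangeRestrict.toRingHom
  have hφ : Function.Surjective φ := fun r => by obtain ⟨r, a, rfl⟩ := r; exact ⟨a, rfl⟩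
  have hkerφ : RingHom.ker φ = idl p e s h := by
    rw [← ker_val hs W hh hdeg hD]
    ext g
    exact Subtype.ext_iff
  haveI : IsNoetherianRing (val p e s π).range := isNoetherianRing_of_surjective _ _ φ hφ
  set r := rel ((p : ℤ) ^ e) with hr
  have hr0 : r ≠ 0 := rel_ne_zero W.hq.ne'
  have hCs : (C ((p : ℤ) ^ e) : P2) = C s * C s := by rw [← hs, sq, map_mul]
  have g1 : r ∈ idl p e s h := Ideal.subset_span (by simp [hr])
  have g2 : h * (X 0 - C s) ∈ idl p e s h := Ideal.subset_span (by simp)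
  have g3 : h * (X 1 - C s) ∈ idl p e s h := Ideal.subset_span (by simp)
  refine LC.gorensteinRing_of_atPrime fun q _ => ?_
  by_cases h1 : φ (X 0 - C s) ∉ q
  · refine gorenstein_step φ hφ q h1 hr0 (fun g hg => W.mul_h_mem hh g hg) ?_ ?_
    · rw [hkerφ]
      refine mem_mul_of_mem_span _ _ _ _ rfl ?_
      rintro x (rfl | rfl)
      · exact Ideal.mul_mem_left _ _ g1
      · rw [mul_comm]; exact g2
    · rw [hkerφ]
      refine mem_mul_of_mem_span _ _ _ _ rfl ?_
      rintro x (rfl | rfl | rfl) <;> refine Ideal.mul_mem_left _ _ ?_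
      · exact Ideal.subset_span (by simp [hr])
      · exact Ideal.mul_mem_right _ _ (Ideal.subset_span (by simp))
      · exact Ideal.mul_mem_right _ _ (Ideal.subset_span (by simp))
  by_cases h2 : φ (X 1 - C s) ∉ q
  · refine gorenstein_step φ hφ q h2 hr0 (fun g hg => W.mul_h_mem hh g hg) ?_ ?_
    · rw [hkerφ]
      refine mem_mul_of_mem_span _ _ _ _ rfl ?_
      rintro x (rfl | rfl)
      · exact Ideal.mul_mem_left _ _ g1
      · rw [mul_comm]; exact g3
    · rw [hkerφ]
      refine mem_mul_of_mem_span _ _ _ _ rfl ?_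
      rintro x (rfl | rfl | rfl) <;> refine Ideal.mul_mem_left _ _ ?_
      · exact Ideal.subset_span (by simp [hr])
      · exact Ideal.mul_mem_right _ _ (Ideal.subset_span (by simp))
      · exact Ideal.mul_mem_right _ _ (Ideal.subset_span (by simp))
  by_cases h3 : φ h ∉ q
  · refine gorenstein_step φ hφ q h3 (sub_C_ne_zero s) (fun g hg => cancel_linear hg) ?_ ?_
    · rw [hkerφ]
      refine mem_mul_of_mem_span _ _ _ _ rfl ?_
      rintro x (rfl | rfl)
      · exact g2
      · exact g3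
    · rw [hkerφ]
      refine mem_mul_of_mem_span _ _ _ _ rfl ?_
      rintro x (rfl | rfl | rfl) <;> refine Ideal.mul_mem_left _ _ ?_
      · rw [rel, hCs, show (X 0 : P2) * X 1 - C s * C s = X 1 * (X 0 - C s) + C s * (X 1 - C s) by ring]
        exact add_mem (Ideal.mul_mem_left _ _ (Ideal.subset_span (by simp)))
          (Ideal.mul_mem_left _ _ (Ideal.subset_span (by simp)))
      · exact Ideal.mul_mem_left _ _ (Ideal.subset_span (by simp))
      · exact Ideal.mul_mem_left _ _ (Ideal.subset_span (by simp))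
  push Not at h1 h2 h3
  have hQ : (q.comap φ).IsPrime := Ideal.IsPrime.comap φ
  have hev : C (ev s s h) ∈ q.comap φ := by
    have hle : Ideal.span ({X 0 - C s, X 1 - C s} : Set P2) ≤ q.comap φ := by
      rw [Ideal.span_le]; rintro x (rfl | rfl) <;> assumption
    have := (q.comap φ).sub_mem (show h ∈ q.comap φ from h3) (hle (sub_ev_mem s s h))
    rwa [sub_sub_cancel] at this
  have hpQ : (C (p : ℤ) : P2) ∉ q.comap φ := fun hpQ => by
    obtain ⟨k, hk⟩ := dvd_ev_sub_constantCoeff (prime_dvd_s hs he) (prime_dvd_s hs he) h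
    obtain ⟨a, b, hab⟩ := (Nat.prime_iff_prime_int.mp (Fact.out : p.Prime)).coprime_iff_not_dvd.mpr hp
    refine hQ.ne_top ((Ideal.eq_top_iff_one _).mpr ?_)
    rw [← map_one C, ← hab, show MvPolynomial.constantCoeff h = ev s s h - (p : ℤ) * k by linarith, map_add,
      map_mul, map_mul, map_sub, map_mul]
    exact add_mem (Ideal.mul_mem_left _ _ hpQ) (Ideal.mul_mem_left _ _ (sub_mem hev (Ideal.mul_mem_right _ _ hpQ)))
  have h4 : φ (X 0) ∉ q := fun hX => hpQ <| hQ.mem_of_pow_mem e <| by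
    rw [← map_pow, hCs]
    refine Ideal.mul_mem_right _ _ ?_
    have := (q.comap φ).sub_mem (show (X 0 : P2) ∈ q.comap φ from hX) (show X 0 - C s ∈ q.comap φ from h1)
    rwa [sub_sub_cancel] at this
  refine gorenstein_step φ hφ q h4 hr0 (b := h * (X 0 - C s)) (fun g hg => ?_) ?_ ?_
  · refine mem_of_mul_mem W.hq.ne'
      (P := (∏ i, minpoly ℤ (π i)) * (Polynomial.X - Polynomial.C s))
      (mul_ne_zero W.prod_monic.ne_zero (Polynomial.X_sub_C_ne_zero _)) (D := D) ?_ hg
    have := Ideal.mul_mem_right (X 0 - C s) _ hh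
    rw [sub_mul, mul_assoc] at this
    simpa [map_mul, map_sub] using this
  · rw [hkerφ]
    refine mem_mul_of_mem_span _ _ _ _ rfl ?_
    rintro x (rfl | rfl) <;> refine Ideal.mul_mem_left _ _ ?_
    · exact g1
    · exact g2
  · rw [hkerφ]
    refine mem_mul_of_mem_span _ _ _ _ rfl ?_
    rintro x (rfl | rfl | rfl)
    · exact Ideal.mul_mem_left _ _ (Ideal.subset_span (by simp [hr]))
    · exact Ideal.mul_mem_left _ _ (Ideal.subset_span (by simp))
    · rw [show (X 0 : P2) * (h * (X 1 - C s)) = h * r - C s * (h * (X 0 - C s)) by rw [hr, rel, hCs]; ring]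
      exact sub_mem (Ideal.mul_mem_left _ _ (Ideal.subset_span (by simp [hr])))
        (Ideal.mul_mem_left _ _ (Ideal.subset_span (by simp)))

end Groth.Agent.MiscTwoH99.WeilS
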