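import Groth.Agent.WeilNumLib.Single
import Mathlib.Algebra.Polynomial.Div

/-!
# A family of Weil numbers enlarged by a rational one: kernel and the middle coefficient
-/

set_option autoImplicit false

universe u

open MvPolynomial (X C)
open Groth.Agent.WeilNumLib

namespace Groth.Agent.MiscTwoH99.WeilS

/-- Polynomials in `F` and `V`. -/
abbrev P2 := MvPolynomial (Fin 2) ℤ

/-- Evaluation at a point. -/
noncomputable abbrev ev (a b : ℤ) : P2 →ₐ[ℤ] ℤ := MvPolynomial.aeval ![a, b]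

theorem sub_ev_mem (a b : ℤ) (g : P2) : g - C (ev a b g) ∈ Ideal.span ({X 0 - C a, X 1 - C b} : Set P2) := by
  induction g using MvPolynomial.induction_on with
  | C c => simp
  | add f g hf hg =>
    rw [map_add, map_add, add_sub_add_comm]
    exact add_mem hf hg
  | mul_X f i hf =>
    rw [map_mul, map_mul, show f * X i - C (ev a b f) * C (ev a b (X i)) =
      (f - C (ev a b f)) * X i + C (ev a b f) * (X i - C (ev a b (X i))) by ring]
    refine add_mem (Ideal.mul_mem_right _ _ hf) (Ideal.mul_mem_left _ _ (Ideal.subset_span ?_))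
    fin_cases i <;> simp [ev]

theorem dvd_ev_sub_constantCoeff {p a b : ℤ} (ha : p ∣ a) (hb : p ∣ b) (g : P2) :
    p ∣ ev a b g - MvPolynomial.constantCoeff g := by
  induction g using MvPolynomial.induction_on with
  | C c => simp
  | add f g hf hg =>
    rw [map_add, map_add, add_sub_add_comm]
    exact dvd_add hf hg
  | mul_X f i _ =>
    rw [map_mul, map_mul, MvPolynomial.constantCoeff_X, mul_zero, sub_zero]
    refine Dvd.dvd.mul_left ?_ _
    fin_cases i <;> simpa [ev]

theorem constantCoeff_rel (q : ℤ) : MvPolynomial.constantCoeff (rel q) = -q := by simp [rel]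

variable {p e : ℕ} [Fact p.Prime] {s : ℤ} (hs : s ^ 2 = (p : ℤ) ^ e)

include hs in
theorem ev_rel : ev s s (rel ((p : ℤ) ^ e)) = 0 := by
  simp [ev, rel, ← sq, hs]

include hs in
theorem prime_dvd_s (he : 0 < e) : (p : ℤ) ∣ s := by
  refine (Nat.prime_iff_prime_int.mp (Fact.out : p.Prime)).dvd_of_dvd_pow (n := 2) ?_
  rw [hs]
  exact dvd_pow_self _ he.ne'

variable {ι : Type} [Fintype ι] {K : ι → Type u} [∀ i, Field (K i)] [∀ i, CharZero (K i)] {π : ∀ i, K i}
  (W : Fam ((p : ℤ) ^ e) K π)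

include W hs in
theorem s_ne_zero : s ≠ 0 := fun h => by
  have := W.hq
  rw [← hs, h] at this
  simp at this

include W in
theorem eval_prod_ne_zero (hdeg : ∀ i, (minpoly ℤ (π i)).natDegree ≠ 1) (a : ℤ) :
    (∏ i, minpoly ℤ (π i)).eval a ≠ 0 := by
  rw [Polynomial.eval_prod, Finset.prod_ne_zero_iff]
  intro i _ h0
  have hdvd : Polynomial.X - Polynomial.C a ∣ minpoly ℤ (π i) := Polynomial.dvd_iff_isRoot.mpr h0
  have hassoc := (Polynomial.irreducible_X_sub_C a).associated_of_dvd (W.irreducible_minpoly i) hdvd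
  have heq := Polynomial.eq_of_monic_of_associated (Polynomial.monic_X_sub_C a) (W.monic_minpoly i) hassoc
  exact hdeg i (by rw [← heq, Polynomial.natDegree_X_sub_C])

variable {D : ℕ} {h : P2}
  (hh : X 0 ^ D * h - Polynomial.aeval (X 0 : P2) (∏ i, minpoly ℤ (π i)) ∈ Ideal.span {rel ((p : ℤ) ^ e)})

include hh hs W in
theorem ev_h_ne_zero (hdeg : ∀ i, (minpoly ℤ (π i)).natDegree ≠ 1) : ev s s h ≠ 0 := by
  intro h0
  obtain ⟨u, hu⟩ := Ideal.mem_span_singleton.mp hh
  have := congrArg (ev s s) hu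
  rw [map_sub, map_mul, map_mul, h0, mul_zero, ev_rel hs, zero_mul, zero_sub, neg_eq_zero,
    ← Polynomial.aeval_algHom_apply, MvPolynomial.aeval_X] at this
  exact eval_prod_ne_zero W hdeg s (by simpa [Polynomial.coe_aeval_eq_eval, Polynomial.eval_prod] using this)

/-- The defining ideal of the enlarged order. -/
noncomputable def idl (p e : ℕ) (s : ℤ) (h : P2) : Ideal P2 :=
  Ideal.span {rel ((p : ℤ) ^ e), h * (X 0 - C s), h * (X 1 - C s)}

/-- The enlarged map. -/
noncomputable abbrev val (p e : ℕ) (s : ℤ) (π : ∀ i, K i) : P2 →ₐ[ℤ] ((i : ι) → K i) × ℚ :=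
  MvPolynomial.aeval ![(⟨fun i => π i, (s : ℚ)⟩ : ((i : ι) → K i) × ℚ), ⟨fun i => ((p : K i) ^ e) / π i, (s : ℚ)⟩]

omit W in
theorem val_eq (g : P2) :
    val p e s π g = (toProd ((p : ℤ) ^ e) π g, ((ev s s g : ℤ) : ℚ)) := by
  have : val p e s π = (toProd ((p : ℤ) ^ e) π).prod ((Int.castRingHom ℚ).toIntAlgHom.comp (ev s s)) := by
    refine MvPolynomial.algHom_ext fun i => ?_
    fin_cases i <;> simp [val, toProd, ev]
  rw [this]
  rfl

include hs W hh in
theorem ker_val (hdeg : ∀ i, (minpoly ℤ (π i)).natDegree ≠ 1) (hD : ∑ i, (minpoly ℤ (π i)).natDegree = 2 * D) :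
    RingHom.ker (val p e s π) = idl p e s h := by
  obtain ⟨hker, -⟩ := W.ker_and_rank hD hh
  refine le_antisymm (fun g hg => ?_) (Ideal.span_le.mpr ?_)
  · rw [RingHom.mem_ker, val_eq, Prod.mk_eq_zero] at hg
    have h1 : g ∈ Ideal.span {rel ((p : ℤ) ^ e), h} := hker ▸ (RingHom.mem_ker.mpr hg.1)
    obtain ⟨a, b, rfl⟩ := Ideal.mem_span_pair.mp h1
    have h2 : ev s s (a * rel _ + b * h) = 0 := Int.cast_eq_zero.mp hg.2
    rw [map_add, map_mul, map_mul, ev_rel hs, mul_zero, zero_add] at h2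
    have hb := (mul_eq_zero.mp h2).resolve_right (ev_h_ne_zero hs W hh hdeg)
    have h3 := sub_ev_mem s s b
    rw [hb, map_zero, sub_zero] at h3
    obtain ⟨c, d, rfl⟩ := Ideal.mem_span_pair.mp h3
    refine add_mem (Ideal.mul_mem_left _ _ (Ideal.subset_span (Set.mem_insert _ _))) ?_
    rw [show (c * (X 0 - C s) + d * (X 1 - C s)) * h = c * (h * (X 0 - C s)) + d * (h * (X 1 - C s)) by ring]
    exact add_mem (Ideal.mul_mem_left _ _ (Ideal.subset_span (by simp)))
      (Ideal.mul_mem_left _ _ (Ideal.subset_span (by simp)))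
  · have hh0 := W.toProd_h hh
    have hr : val p e s π (rel ((p : ℤ) ^ e)) = 0 := by
      rw [val_eq, W.toProd_rel, ev_rel hs]; rfl
    simp [Set.insert_subset_iff, hr, val_eq, hh0, ev]

section Middle

variable (hdeg : ∀ i, (minpoly ℤ (π i)).natDegree ≠ 1)

include hs W hdeg in
theorem nonreal_data (i : ι) : Even (minpoly ℤ (π i)).natDegree ∧
    ∀ r ≤ (minpoly ℤ (π i)).natDegree / 2, (minpoly ℤ (π i)).coeff ((minpoly ℤ (π i)).natDegree / 2 - r) =
      ((p : ℤ) ^ e) ^ r * (minpoly ℤ (π i)).coeff ((minpoly ℤ (π i)).natDegree / 2 + r) := by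
  have W₁ : Fam ((p : ℤ) ^ e) (fun _ : Unit => K i) (fun _ => π i) :=
    { hq := W.hq, hint := fun _ => W.hint i, hconj := fun _ => W.hconj i, hinj := fun _ _ _ => rfl }
  refine W₁.nonreal fun z hz him => ?_
  have hconj := W.hconj i z hz
  have hz' : z = (z.re : ℂ) := Complex.ext rfl him
  rw [hz', Complex.conj_ofReal, ← hs] at hconj
  push_cast at hconj
  rw [← sq] at hconj
  obtain ⟨a, ha⟩ : ∃ a : ℤ, z = (a : ℂ) := by
    rcases sq_eq_sq_iff_eq_or_eq_neg.mp hconj with h | h
    · exact ⟨s, hz'.trans h⟩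
    · exact ⟨-s, by push_cast; exact hz'.trans h⟩
  have h0 := (Polynomial.mem_aroots.mp hz).2
  rw [ha, show (a : ℂ) = algebraMap ℤ ℂ a from (eq_intCast _ a).symm, Polynomial.aeval_algebraMap_apply,
    map_eq_zero_iff _ (algebraMap ℤ ℂ).injective_int] at h0
  have hdvd : Polynomial.X - Polynomial.C a ∣ minpoly ℤ (π i) :=
    Polynomial.dvd_iff_isRoot.mpr (by simpa [Polynomial.coe_aeval_eq_eval] using h0)
  have hassoc := (Polynomial.irreducible_X_sub_C a).associated_of_dvd (W.irreducible_minpoly i) hdvd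
  have heq := Polynomial.eq_of_monic_of_associated (Polynomial.monic_X_sub_C a) (W.monic_minpoly i) hassoc
  exact hdeg i (by rw [← heq, Polynomial.natDegree_X_sub_C])

include hs W hdeg in
theorem dvd_coeff_prod (he : 0 < e) (hD : ∑ i, (minpoly ℤ (π i)).natDegree = 2 * D) :
    (p : ℤ) ∣ (∏ i, minpoly ℤ (π i)).coeff D ↔
      ∃ i, (p : ℤ) ∣ (minpoly ℤ (π i)).coeff ((minpoly ℤ (π i)).natDegree / 2) := by
  let f := Int.castRingHom (ZMod p)
  let d : ι → ℕ := fun i => (minpoly ℤ (π i)).natDegree / 2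
  have hd : ∑ i, d i = D := by
    have h2 : ∀ i, (minpoly ℤ (π i)).natDegree = 2 * d i := fun i =>
      (Nat.two_mul_div_two_of_even (nonreal_data hs W hdeg i).1).symm
    rw [Finset.sum_congr rfl fun i _ => h2 i, ← Finset.mul_sum] at hD
    omega
  have hX : ∀ i, Polynomial.X ^ d i ∣ (minpoly ℤ (π i)).map f := fun i => by
    rw [Polynomial.X_pow_dvd_iff]
    intro j hj
    have hj' := (nonreal_data hs W hdeg i).2 (d i - j) (Nat.sub_le _ _)
    have hdi : d i = (minpoly ℤ (π i)).natDegree / 2 := rfl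
    rw [show (minpoly ℤ (π i)).natDegree / 2 - (d i - j) = j by omega] at hj'
    rw [Polynomial.coeff_map, hj', map_mul, map_pow, map_pow,
      show f (p : ℤ) = 0 by simp [f], zero_pow he.ne', zero_pow (by omega), zero_mul]
  choose Q hQ using hX
  have hcoeff : ∀ i, (Q i).coeff 0 = f ((minpoly ℤ (π i)).coeff (d i)) := fun i => by
    rw [← Polynomial.coeff_map, hQ i]
    simpa using (Polynomial.coeff_X_pow_mul (Q i) (d i) 0).symm
  have key : f ((∏ i, minpoly ℤ (π i)).coeff D) = ∏ i, f ((minpoly ℤ (π i)).coeff (d i)) := by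
    rw [← Polynomial.coeff_map, Polynomial.map_prod, Finset.prod_congr rfl fun i _ => hQ i, Finset.prod_mul_distrib,
      Finset.prod_pow_eq_pow_sum, hd]
    have := Polynomial.coeff_X_pow_mul (∏ i, Q i) D 0
    rw [zero_add] at this
    rw [this, Polynomial.coeff_zero_prod]
    exact Finset.prod_congr rfl fun i _ => hcoeff i
  rw [← ZMod.intCast_zmod_eq_zero_iff_dvd, show ((∏ i, minpoly ℤ (π i)).coeff D : ZMod p) =
    ∏ i, f ((minpoly ℤ (π i)).coeff (d i)) from key, Finset.prod_eq_zero_iff]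
  simp [f, d, ZMod.intCast_zmod_eq_zero_iff_dvd]

end Middle

end Groth.Agent.MiscTwoH99.WeilS
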