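import Groth.Agent.MiscTwoH99.WeilS.Gor

/-!
# Necessity of ordinarity for Gorenstein-ness of the enlarged order
-/

set_option autoImplicit false

universe u

open MvPolynomial (X C)
open Groth.Agent.WeilNumLib IsLocalRing

namespace Groth.Agent.MiscTwoH99.WeilS

variable {p e : ℕ} [Fact p.Prime] {s : ℤ} (hs : s ^ 2 = (p : ℤ) ^ e)
  {ι : Type} [Fintype ι] {K : ι → Type u} [∀ i, Field (K i)] [∀ i, CharZero (K i)] {π : ∀ i, K i}
  (W : Fam ((p : ℤ) ^ e) K π) {D : ℕ} {h : P2}
  (hh : X 0 ^ D * h - Polynomial.aeval (X 0 : P2) (∏ i, minpoly ℤ (π i)) ∈ Ideal.span {rel ((p : ℤ) ^ e)})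
  (hdeg : ∀ i, (minpoly ℤ (π i)).natDegree ≠ 1)
  (hD : ∑ i, (minpoly ℤ (π i)).natDegree = 2 * D)

/-- `F ↦ X`, `V ↦ 0` modulo `p`. -/
noncomputable def psiF (p : ℕ) : P2 →+* Polynomial (ZMod p) :=
  MvPolynomial.eval₂Hom (Int.castRingHom _) ![Polynomial.X, 0]

/-- `F ↦ 0`, `V ↦ X` modulo `p`. -/
noncomputable def psiV (p : ℕ) : P2 →+* Polynomial (ZMod p) :=
  MvPolynomial.eval₂Hom (Int.castRingHom _) ![0, Polynomial.X]

/-- The residue map at the point `(0,0)` modulo `p`. -/
noncomputable def chi (p : ℕ) : P2 →+* ZMod p :=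
  (Int.castRingHom (ZMod p)).comp MvPolynomial.constantCoeff

@[simp] theorem psiF_X0 : psiF p (X 0) = Polynomial.X := by simp [psiF]

@[simp] theorem psiF_X1 : psiF p (X 1) = 0 := by simp [psiF]

@[simp] theorem psiF_intCast (a : ℤ) : psiF p (a : P2) = Polynomial.C (a : ZMod p) :=
  (map_intCast (psiF p) a).trans (map_intCast (Polynomial.C (R := ZMod p)) a).symm

@[simp] theorem psiF_C (a : ℤ) : psiF p (C a) = Polynomial.C (a : ZMod p) := by
  rw [eq_intCast (C : ℤ →+* P2), psiF_intCast]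

@[simp] theorem psiV_X0 : psiV p (X 0) = 0 := by simp [psiV]

@[simp] theorem psiV_X1 : psiV p (X 1) = Polynomial.X := by simp [psiV]

@[simp] theorem psiV_intCast (a : ℤ) : psiV p (a : P2) = Polynomial.C (a : ZMod p) :=
  (map_intCast (psiV p) a).trans (map_intCast (Polynomial.C (R := ZMod p)) a).symm

@[simp] theorem psiV_C (a : ℤ) : psiV p (C a) = Polynomial.C (a : ZMod p) := by
  rw [eq_intCast (C : ℤ →+* P2), psiV_intCast]

omit W in
theorem coeff_zero_psiF (g : P2) : (psiF p g).coeff 0 = chi p g := by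
  have : (Polynomial.constantCoeff).comp (psiF p) = chi p := by
    refine MvPolynomial.ringHom_ext (fun c => by simp [psiF, chi]) fun i => ?_
    fin_cases i <;> simp [psiF, chi]
  exact DFunLike.congr_fun this g

omit W in
theorem coeff_zero_psiV (g : P2) : (psiV p g).coeff 0 = chi p g := by
  have : (Polynomial.constantCoeff).comp (psiV p) = chi p := by
    refine MvPolynomial.ringHom_ext (fun c => by simp [psiV, chi]) fun i => ?_
    fin_cases i <;> simp [psiV, chi]
  exact DFunLike.congr_fun this g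

omit W in
theorem psiF_aeval (G : Polynomial ℤ) :
    psiF p (Polynomial.aeval (X 0 : P2) G) = G.map (Int.castRingHom (ZMod p)) := by
  have : (psiF p).comp (Polynomial.aeval (X 0 : P2)).toRingHom = Polynomial.mapRingHom (Int.castRingHom (ZMod p)) :=
    Polynomial.ringHom_ext (fun c => by simp [psiF]) (by simp [psiF])
  exact DFunLike.congr_fun this G

/-- The part killed by `F ↦ X`, `V ↦ 0` lies in `(p, V)`. -/
theorem mem_of_psiF_eq_zero {g : P2} (hg : psiF p g = 0) :
    g ∈ Ideal.span ({C (p : ℤ), X 1} : Set P2) := by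
  let v : Fin 2 → Polynomial ℤ := ![Polynomial.X, 0]
  have hv : ∀ i, X i - Polynomial.aeval (X 0 : P2) (v i) ∈ Ideal.span ({C (p : ℤ), X 1} : Set P2) := by
    intro i
    fin_cases i
    · simp [v]
    · exact Ideal.subset_span (by simp [v])
  have h1 : (MvPolynomial.aeval v g).map (Int.castRingHom (ZMod p)) = psiF p g := by
    have : (Polynomial.mapRingHom (Int.castRingHom (ZMod p))).comp (MvPolynomial.aeval v).toRingHom = psiF p := by
      refine MvPolynomial.ringHom_ext (fun c => by simp [psiF]) fun i => ?_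
      fin_cases i <;> simp [psiF, v]
    exact DFunLike.congr_fun this g
  have h2 : Polynomial.C (p : ℤ) ∣ MvPolynomial.aeval v g := Polynomial.C_dvd_iff_dvd_coeff _ _ |>.mpr fun i =>
    (ZMod.intCast_zmod_eq_zero_iff_dvd _ p).mp (by
      have := congrArg (fun f => f.coeff i) h1
      simpa [hg] using this)
  obtain ⟨G, hG⟩ := h2
  have h3 := subst_sub_mem 0 v _ hv g
  rw [hG, map_mul, Polynomial.aeval_C] at h3
  have h4 : (algebraMap ℤ P2 (p : ℤ)) * Polynomial.aeval (X 0 : P2) G ∈ Ideal.span ({C (p : ℤ), X 1} : Set P2) :=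
    Ideal.mul_mem_right _ _ (Ideal.subset_span (Set.mem_insert _ _))
  simpa using add_mem h3 h4

include hs hh hdeg hD W in
theorem not_gorenstein_aux (he : 0 < e) (hp : (p : ℤ) ∣ MvPolynomial.constantCoeff h)
    {B : Type u} [CommRing B] (φ : P2 →+* B) (hφ : Function.Surjective φ) (hkerφ : RingHom.ker φ = idl p e s h)
    (htf : ∀ z : B, φ (C (p : ℤ)) * z = 0 → z = 0) : ¬ LocCoh.IsGorensteinRing.{u} B := by
  intro hG
  have hps : (s : ZMod p) = 0 := (ZMod.intCast_zmod_eq_zero_iff_dvd _ p).mpr (prime_dvd_s hs he)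
  have hpq : ((p : ZMod p)) ^ e = 0 := by rw [ZMod.natCast_self, zero_pow he.ne']
  have hidl : ∀ (R : Type) [CommRing R] (f : P2 →+* R) (k : R), f (rel ((p : ℤ) ^ e)) = 0 →
      k ∣ f (h * (X 0 - C s)) → k ∣ f (h * (X 1 - C s)) → ∀ g ∈ idl p e s h, k ∣ f g := by
    intro R _ f k e1 e2 e3 g hg
    induction hg using Submodule.span_induction with
    | mem x hx => rcases hx with rfl | rfl | rfl <;> [exact e1 ▸ dvd_zero k; exact e2; exact e3]
    | zero => simp
    | add x y _ _ hx hy => rw [map_add]; exact dvd_add hx hy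
    | smul r x _ hx => rw [smul_eq_mul, map_mul]; exact hx.mul_left _
  have hchi : idl p e s h ≤ RingHom.ker (chi p) := fun g hg => zero_dvd_iff.mp
    (hidl (ZMod p) (chi p) 0 (by simp [chi, rel, zero_pow he.ne']) (by simp [chi, hps]) (by simp [chi, hps]) g hg)
  let M : Ideal B := (RingHom.ker (chi p)).map φ
  haveI := RingHom.ker_isPrime (chi p)
  haveI : M.IsPrime := Ideal.map_isPrime_of_surjective hφ (by rw [hkerφ]; exact hchi)
  have hMφ : ∀ g, φ g ∈ M ↔ chi p g = 0 := fun g => by
    show g ∈ Ideal.comap φ ((RingHom.ker (chi p)).map φ) ↔ _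
    rw [Ideal.comap_map_of_surjective _ hφ, ← RingHom.ker_eq_comap_bot, hkerφ, sup_eq_left.mpr hchi,
      RingHom.mem_ker]
  haveI := LocCoh.IsGorensteinRing.isGorensteinLocalRing_localization (A := B) M
  let ε : P2 →+* (Localization.AtPrime M) := (algebraMap B (Localization.AtPrime M)).comp φ
  let x : (Localization.AtPrime M) := ε (C (p : ℤ))
  have hx : x ∈ maximalIdeal (Localization.AtPrime M) :=
    (IsLocalization.AtPrime.to_map_mem_maximal_iff (Localization.AtPrime M) M _).mpr ((hMφ _).mpr (by simp [chi]))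
  have hreg : IsSMulRegular (Localization.AtPrime M) x := by
    rw [isSMulRegular_iff_right_eq_zero_of_smul]
    intro y hy
    obtain ⟨b, t, rfl⟩ := IsLocalization.exists_mk'_eq M.primeCompl y
    rw [smul_eq_mul, show x = algebraMap B (Localization.AtPrime M) (φ (C (p : ℤ))) from rfl,
      IsLocalization.mul_mk'_eq_mk'_of_mul, IsLocalization.mk'_eq_zero_iff] at hy
    obtain ⟨t', ht'⟩ := hy
    refine (IsLocalization.mk'_eq_zero_iff _ _).mpr ⟨t', ?_⟩
    rw [mul_left_comm] at ht'
    exact htf _ ht'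
  haveI : Nontrivial ((Localization.AtPrime M) ⧸ Ideal.span {x}) := Ideal.Quotient.nontrivial_iff.mpr fun htop =>
    (maximalIdeal.isMaximal (Localization.AtPrime M)).ne_top (top_le_iff.mp (htop ▸ (Ideal.span_singleton_le_iff_mem _).mpr hx))
  haveI : IsLocalRing ((Localization.AtPrime M) ⧸ Ideal.span {x}) := .of_surjective' _ Ideal.Quotient.mk_surjective
  haveI := LC.gorenstein_of_surjective_span_singleton (Ideal.Quotient.mk (Ideal.span {x}))
    Ideal.Quotient.mk_surjective hx hreg Ideal.mk_ker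
  let σ : P2 →+* (Localization.AtPrime M) ⧸ Ideal.span {x} := (Ideal.Quotient.mk _).comp ε
  have hzero : ∀ g, σ g = 0 → ∃ w g' : P2, chi p w ≠ 0 ∧ w * g - C (p : ℤ) * g' ∈ idl p e s h := by
    intro g hg
    obtain ⟨y, hy⟩ := Ideal.mem_span_singleton.mp (Ideal.Quotient.eq_zero_iff_mem.mp hg)
    obtain ⟨b, t, rfl⟩ := IsLocalization.exists_mk'_eq M.primeCompl y
    change algebraMap _ (Localization.AtPrime M) (φ g) = algebraMap _ (Localization.AtPrime M) (φ (C (p : ℤ))) * IsLocalization.mk' (Localization.AtPrime M) b t at hy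
    rw [IsLocalization.mul_mk'_eq_mk'_of_mul, IsLocalization.eq_mk'_iff_mul_eq, ← map_mul] at hy
    obtain ⟨t', ht'⟩ := (IsLocalization.eq_iff_exists M.primeCompl (Localization.AtPrime M)).mp hy
    obtain ⟨w, hw⟩ := hφ ((t' : B) * t)
    obtain ⟨g', hg'⟩ := hφ ((t' : B) * b)
    refine ⟨w, g', fun h0 => ?_, ?_⟩
    · have := (hMφ w).mpr h0
      rw [hw] at this
      exact (t' * t).2 this
    · rw [← hkerφ, RingHom.mem_ker, map_sub, map_mul, map_mul, hw, hg', sub_eq_zero]
      linear_combination ht'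
  have hσidl : ∀ g ∈ idl p e s h, σ g = 0 := fun g hg => by
    rw [← hkerφ] at hg
    simp [σ, ε, RingHom.mem_ker.mp hg]
  have hσp : σ (C (p : ℤ)) = 0 := Ideal.Quotient.eq_zero_iff_mem.mpr (Ideal.mem_span_singleton_self x)
  have hσs : σ (C s) = 0 := by
    obtain ⟨k, hk⟩ := prime_dvd_s hs he
    rw [hk, map_mul, map_mul, hσp, zero_mul]
  have hFV : σ (X 0) * σ (X 1) = 0 := by
    have := hσidl _ (show rel ((p : ℤ) ^ e) ∈ idl p e s h from Ideal.subset_span (Set.mem_insert _ _))
    rwa [rel, map_sub, map_mul, map_pow, map_pow, hσp, zero_pow he.ne', sub_zero] at this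
  have hFh : ∀ j, σ (X j) * σ h = 0 := by
    intro j
    have := hσidl (h * (X j - C s)) (Ideal.subset_span (by fin_cases j <;> simp))
    rwa [map_mul, map_sub, hσs, sub_zero, mul_comm] at this
  have hsoc : ∀ z, σ (X 0) * z = 0 → σ (X 1) * z = 0 → ∀ r ∈ maximalIdeal ((Localization.AtPrime M) ⧸ Ideal.span {x}), r * z = 0 := by
    intro z hz0 hz1 r hr
    obtain ⟨r, rfl⟩ := Ideal.Quotient.mk_surjective r
    have hr' : r ∈ maximalIdeal (Localization.AtPrime M) := (mem_maximalIdeal r).mpr fun hu =>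
      (mem_maximalIdeal _).mp hr (hu.map (Ideal.Quotient.mk _))
    obtain ⟨b, t, rfl⟩ := IsLocalization.exists_mk'_eq M.primeCompl r
    obtain ⟨g, rfl⟩ := hφ b
    have hg : chi p g = 0 := (hMφ g).mp ((IsLocalization.AtPrime.mk'_mem_maximal_iff (Localization.AtPrime M) M (φ g) t).mp hr')
    have hgm : σ g * z = 0 := by
      have hlin : g - C (MvPolynomial.constantCoeff g) ∈ Ideal.span ({X 0, X 1} : Set P2) := by
        have := sub_ev_mem 0 0 g
        have hev : (ev 0 0).toRingHom = MvPolynomial.constantCoeff := by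
          refine MvPolynomial.ringHom_ext (fun c => by simp) fun i => ?_
          fin_cases i <;> simp [ev]
        rw [show ev 0 0 g = MvPolynomial.constantCoeff g from DFunLike.congr_fun hev g] at this
        simpa using this
      obtain ⟨a, b, hab⟩ := Ideal.mem_span_pair.mp hlin
      obtain ⟨k, hk⟩ := (ZMod.intCast_zmod_eq_zero_iff_dvd _ p).mp hg
      rw [eq_sub_iff_add_eq, hk, map_mul] at hab
      rw [← hab, map_add, map_add, map_mul, map_mul, map_mul, hσp]
      linear_combination σ a * hz0 + σ b * hz1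
    have hspec : IsLocalization.mk' (Localization.AtPrime M) (φ g) t * algebraMap _ (Localization.AtPrime M) (t : B) = ε g :=
      IsLocalization.mk'_spec _ _ _
    have htu : IsUnit (Ideal.Quotient.mk (Ideal.span {x}) (algebraMap _ (Localization.AtPrime M) (t : B))) :=
      (IsLocalization.map_units (Localization.AtPrime M) t).map _
    refine htu.mul_left_eq_zero.mp ?_
    rw [mul_right_comm, ← map_mul, hspec]
    exact hgm
  -- the two reductions of `h`
  have hpsiF : (Polynomial.X : Polynomial (ZMod p)) ^ D * psiF p h =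
      (∏ i, minpoly ℤ (π i)).map (Int.castRingHom (ZMod p)) := by
    obtain ⟨u, hu⟩ := Ideal.mem_span_singleton.mp hh
    have := congrArg (psiF p) hu
    rw [map_sub, map_mul, map_pow, map_mul, psiF_aeval, show psiF p (rel ((p : ℤ) ^ e)) = 0 by
      simp [rel, zero_pow he.ne'], zero_mul, sub_eq_zero] at this
    simpa using this
  have hF0 : psiF p h ≠ 0 := fun h0 => (W.prod_monic.map (Int.castRingHom (ZMod p))).ne_zero
    (by rw [← hpsiF, h0, mul_zero])
  have hDpos : D ≠ 0 := by
    rintro rfl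
    have h1 := (dvd_constantCoeff_iff W hh hD he).mp hp
    rw [show (∏ i, minpoly ℤ (π i)).coeff 0 = 1 by
      have := W.prod_monic.coeff_natDegree
      rwa [W.prod_natDegree, hD] at this] at h1
    exact (Nat.prime_iff_prime_int.mp (Fact.out : p.Prime)).not_isUnit (isUnit_of_dvd_one h1)
  have hV0 : psiV p h ≠ 0 := by
    obtain ⟨c, hc, hmem⟩ := h_sub_canon_mem W hh hD
    obtain ⟨u, hu⟩ := Ideal.mem_span_singleton.mp hmem
    have h1 := congrArg (psiV p) hu
    rw [map_sub, map_mul, show psiV p (rel ((p : ℤ) ^ e)) = 0 by simp [rel, zero_pow he.ne'], zero_mul,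
      sub_eq_zero] at h1
    intro h0
    have h2 := congrArg (fun f => f.coeff D) (h1.symm.trans h0)
    obtain ⟨D', rfl⟩ := Nat.exists_eq_succ_of_ne_zero hDpos
    rw [map_add, map_sum, map_sum, Finset.sum_range_succ' _ (D' + 1)] at h2
    have htop : (∏ i, minpoly ℤ (π i)).coeff (D' + 1 + D' + 1) = 1 := by
      have := W.prod_monic.coeff_natDegree
      rwa [W.prod_natDegree, hD, show 2 * (D' + 1) = D' + 1 + D' + 1 by ring] at this
    simp [-map_intCast, Finset.sum_range_succ _ D', htop, Polynomial.finsetSum_coeff] at h2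
    have : (c * c : ZMod p) = 1 := by exact_mod_cast congrArg (Int.cast : ℤ → ZMod p) hc
    rw [Finset.sum_eq_zero fun b hb => by
      rw [← Polynomial.C_mul, Polynomial.coeff_C_mul_X_pow, if_neg (by rw [Finset.mem_range] at hb; omega)],
      zero_add] at h2
    rw [h2, zero_mul] at this
    exact zero_ne_one this
  -- the socle element
  obtain ⟨w, hw, hw0⟩ := Polynomial.exists_eq_pow_rootMultiplicity_mul_and_not_dvd (psiF p h) hF0 0
  rw [map_zero, sub_zero] at hw hw0
  rw [Polynomial.X_dvd_iff] at hw0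
  set i := (psiF p h).rootMultiplicity 0
  have hi : i ≠ 0 := fun hi => hw0 (by
    rw [hi, pow_zero, one_mul] at hw
    rw [← hw, coeff_zero_psiF]
    exact (ZMod.intCast_zmod_eq_zero_iff_dvd _ p).mpr hp)
  obtain ⟨w', hw'⟩ := Polynomial.map_surjective (Int.castRingHom (ZMod p)) ZMod.intCast_surjective w
  let W' : P2 := Polynomial.aeval (X 0 : P2) w'
  have hW' : psiF p W' = w := by rw [psiF_aeval, hw']
  have hW'u : IsUnit (σ W') := by
    refine (IsLocalization.map_units (Localization.AtPrime M) (⟨φ W', fun hm => hw0 ?_⟩ : M.primeCompl)).map (Ideal.Quotient.mk _)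
    rw [← hW', coeff_zero_psiF]
    exact (hMφ _).mp hm
  have hb0 : σ (X 0) * σ (X 0 ^ i) = 0 := by
    refine hW'u.mul_left_eq_zero.mp ?_
    have h1 : X 0 ^ i * W' - h ∈ Ideal.span ({C (p : ℤ), X 1} : Set P2) := by
      refine mem_of_psiF_eq_zero ?_
      rw [map_sub, map_mul, map_pow, hW', hw]
      simp
    obtain ⟨a, b, hab⟩ := Ideal.mem_span_pair.mp h1
    have h2 := congrArg (fun g => σ (X 0) * σ g) hab
    simp only [map_add, map_sub, map_mul, hσp, mul_zero, zero_add, mul_sub, hFh, sub_zero] at h2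
    rw [mul_assoc, ← h2, mul_left_comm, hFV, mul_zero]
  have hb1 : σ (X 1) * σ (X 0 ^ i) = 0 := by
    obtain ⟨i', hi'⟩ := Nat.exists_eq_succ_of_ne_zero hi
    rw [hi', pow_succ', map_mul, ← mul_assoc, mul_comm (σ (X 1)), hFV, zero_mul]
  have hbne : σ (X 0 ^ i) ≠ 0 := by
    intro h0
    obtain ⟨u, g', hu, hmem⟩ := hzero _ h0
    have hd := hidl _ (psiF p) (Polynomial.X ^ (i + 1)) (by simp [rel, zero_pow he.ne'])
      (by rw [map_mul, hw, show psiF p (X 0 - C s) = Polynomial.X by simp [-map_intCast, hps],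
            pow_succ, mul_right_comm]; exact dvd_mul_right _ _)
      (by simp [-map_intCast, hps]) _ hmem
    rw [map_sub, map_mul, map_mul, show psiF p (C (p : ℤ)) = 0 by simp, zero_mul, sub_zero, map_pow,
      psiF_X0, pow_succ', mul_dvd_mul_iff_right (pow_ne_zero _ Polynomial.X_ne_zero),
      Polynomial.X_dvd_iff, coeff_zero_psiF] at hd
    exact hu hd
  obtain ⟨-, hsimple⟩ := LC.socle_of_gorenstein hbne (hsoc _ hb0 hb1)
  obtain ⟨c, hc⟩ := hsimple (σ h) (hsoc _ (hFh 0) (hFh 1))
  obtain ⟨c, rfl⟩ := Ideal.Quotient.mk_surjective c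
  obtain ⟨b, t, rfl⟩ := IsLocalization.exists_mk'_eq M.primeCompl c
  obtain ⟨c₀, rfl⟩ := hφ b
  obtain ⟨t₀, ht₀⟩ := hφ (t : B)
  have hchit : chi p t₀ ≠ 0 := fun h0 => t.2 (by simpa [ht₀] using (hMφ t₀).mpr h0)
  have h4 : σ (t₀ * h - c₀ * X 0 ^ i) = 0 := by
    have hspec : IsLocalization.mk' (Localization.AtPrime M) (φ c₀) t * ε t₀ = ε c₀ := by
      show _ * algebraMap _ (Localization.AtPrime M) (φ t₀) = _
      rw [ht₀]
      exact IsLocalization.mk'_spec _ _ _
    rw [map_sub, map_mul, map_mul, hc, show σ c₀ = Ideal.Quotient.mk _ (IsLocalization.mk' (Localization.AtPrime M) (φ c₀) t * ε t₀) by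
      rw [hspec]; rfl, map_mul]
    show σ t₀ * _ - _ = 0
    simp only [σ, RingHom.comp_apply]
    ring
  obtain ⟨u, g', hu, hmem⟩ := hzero _ h4
  have hd := hidl _ (psiV p) (Polynomial.X * psiV p h) (by simp [rel, zero_pow he.ne'])
    (by simp [-map_intCast, hps])
    (by simp [-map_intCast, hps, mul_comm]) _ hmem
  rw [map_sub, map_mul, map_mul (psiV p) (C _), show psiV p (C (p : ℤ)) = 0 by simp, zero_mul, sub_zero,
    map_sub, map_mul, map_mul, map_pow, psiV_X0, zero_pow hi, mul_zero, sub_zero,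
    ← mul_assoc, mul_dvd_mul_iff_right hV0, Polynomial.X_dvd_iff, Polynomial.mul_coeff_zero, coeff_zero_psiV,
    coeff_zero_psiV] at hd
  exact mul_ne_zero hu hchit hd


include hs hh hdeg hD W in
theorem not_gorenstein_of_dvd (he : 0 < e) (hp : (p : ℤ) ∣ MvPolynomial.constantCoeff h) :
    ¬ LocCoh.IsGorensteinRing.{u} (val p e s π).range := by
  refine not_gorenstein_aux hs W hh hdeg hD he hp (val p e s π).rangeRestrict.toRingHom
    (fun r => by obtain ⟨r, a, rfl⟩ := r; exact ⟨a, rfl⟩) ?_ ?_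
  · rw [← ker_val hs W hh hdeg hD]
    ext g
    exact Subtype.ext_iff
  · intro z hz
    refine Subtype.ext ?_
    have h1 : val p e s π (C (p : ℤ)) * (z : ((i : ι) → K i) × ℚ) = 0 := congrArg Subtype.val hz
    rw [show val p e s π (C (p : ℤ)) = ((p : ℤ) : ((i : ι) → K i) × ℚ) by simp [val]] at h1
    refine Prod.ext (funext fun i => ?_) ?_
    · have := congrFun (congrArg Prod.fst h1) i
      simpa [(Fact.out : p.Prime).ne_zero] using this
    · simpa [(Fact.out : p.Prime).ne_zero] using congrArg Prod.snd h1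

end Groth.Agent.MiscTwoH99.WeilS
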